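import Groth.Agent.FibDesc.K61.Coind
import Mathlib.Algebra.Homology.Factorizations.CM5a
import Mathlib.CategoryTheory.Adjunction.Additive

/-!
# Fubini for biaugmented bicosimplicial complexes
-/

set_option autoImplicit false
set_option backward.isDefEq.respectTransparency false
set_option backward.isDefEq.respectTransparency.types false

universe u v w v'

open CategoryTheory CategoryTheory.Limits Opposite ComplexShape HomologicalComplex₂

namespace K61.Fub

open K781.Desc

/-- The inclusion of the bicosimplicial part. -/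
abbrev jj : SimplexCategory × SimplexCategory ⥤ Dp × Dp := WithInitial.incl.prod WithInitial.incl

instance : jj.Full where
  map_surjective f := ⟨(WithInitial.incl.preimage f.1, WithInitial.incl.preimage f.2),
    Prod.ext (WithInitial.incl.map_preimage f.1) (WithInitial.incl.map_preimage f.2)⟩

instance : jj.Faithful where
  map_injective h := Prod.ext (WithInitial.incl.map_injective (congr_arg Prod.fst h))
    (WithInitial.incl.map_injective (congr_arg Prod.snd h))

/-- Restriction along `jj`. -/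
abbrev W : (Dp × Dp ⥤ AddCommGrpCat.{u}) ⥤ (SimplexCategory × SimplexCategory ⥤ AddCommGrpCat.{u}) :=
  (Functor.whiskeringLeft _ _ _).obj jj

/-- Right Kan extension along `jj`. -/
noncomputable abbrev R : (SimplexCategory × SimplexCategory ⥤ AddCommGrpCat.{u}) ⥤ (Dp × Dp ⥤ AddCommGrpCat.{u}) :=
  jj.ran

instance : (R.{u}).Additive := (jj.ranAdjunction AddCommGrpCat.{u}).right_adjoint_additive

lemma detect (I : SimplexCategory × SimplexCategory ⥤ AddCommGrpCat.{u}) (x : Dp × Dp) (a : (R.obj I).obj x)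
    (h : ∀ (i : ℕ × ℕ) (f : x ⟶ (ob i.1, ob i.2)), (R.obj I).map f a = 0) : a = 0 := by
  have hl := (jj.isPointwiseRightKanExtensionRanCounit I) x
  refine Concrete.isLimit_ext _ hl _ _ fun f => ?_
  rw [map_zero]
  change (jj.ranCounit.app I).app f.right ((R.obj I).map f.hom a) = 0
  have h1 := h (f.right.1.len, f.right.2.len) f.hom
  erw [h1]
  exact map_zero _

instance : (W.{u}).PreservesMonomorphisms where
  preserves {P Q} f hf := by
    have : ∀ x, Mono ((W.map f).app x) := fun x => inferInstanceAs (Mono (f.app (jj.obj x)))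
    exact NatTrans.mono_of_mono_app _

lemma injective_R (I : SimplexCategory × SimplexCategory ⥤ AddCommGrpCat.{u}) [Injective I] :
    Injective (R.obj I) :=
  Injective.injective_of_adjoint (jj.ranAdjunction AddCommGrpCat.{u}) I

lemma augExact_L (I : SimplexCategory × SimplexCategory ⥤ AddCommGrpCat.{u}) [Injective I] (x : Dp) :
    AugExact (secL x ⋙ R.obj I) := by
  have := injective_R I
  exact augExact_of_ex (ex_of_injective (wt := fun i : ℕ × ℕ => ((ob i.1, ob i.2) : Dp × Dp))
    (fun i => XD.prodL x (ob i.1) (xdSimplex i.2)) (R.obj I) (detect I))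

lemma augExact_R (I : SimplexCategory × SimplexCategory ⥤ AddCommGrpCat.{u}) [Injective I] (x : Dp) :
    AugExact (secR x ⋙ R.obj I) := by
  have := injective_R I
  exact augExact_of_ex (ex_of_injective (wt := fun i : ℕ × ℕ => ((ob i.1, ob i.2) : Dp × Dp))
    (fun i => XD.prodR x (ob i.2) (xdSimplex i.1)) (R.obj I) (detect I))

theorem bb_rs {C D V : Type*} [Category* C] [Category* D] [Category* V] [Preadditive V] (σ : C ⥤ D)
    {A : CochainComplex (D ⥤ V) ℤ} (hA : BB A) : BB (rs σ A) := by
  obtain ⟨a, ha⟩ := hA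
  exact ⟨a, fun i hi => ((Functor.whiskeringLeft _ _ V).obj σ).map_isZero (ha i hi)⟩

/-- `φ` is a quasi-isomorphism at `x`. -/
def QA {D : Type v'} [Category.{v} D] {A B : CochainComplex (D ⥤ AddCommGrpCat.{u}) ℤ} (φ : A ⟶ B) (x : D) : Prop :=
  QuasiIso ((((evaluation D AddCommGrpCat.{u}).obj x).mapHomologicalComplex (up ℤ)).map φ)

lemma qAt_rs {D : Type v'} [Category.{v} D] {A B : CochainComplex (D ⥤ AddCommGrpCat.{u}) ℤ} (φ : A ⟶ B)
    (σ : Dp ⥤ D) (x : Dp) :
    QAt ((((Functor.whiskeringLeft _ _ AddCommGrpCat.{u}).obj σ).mapHomologicalComplex (up ℤ)).map φ) x ↔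
      QA φ (σ.obj x) := Iff.rfl

lemma QA.of_quasiIso {D : Type v'} [Category.{v} D] {A B : CochainComplex (D ⥤ AddCommGrpCat.{u}) ℤ} (φ : A ⟶ B)
    (hφ : QuasiIso φ) (x : D) : QA φ x := by
  unfold QA
  infer_instance

section

variable (A : CochainComplex (Dp × Dp ⥤ AddCommGrpCat.{u}) ℤ)
  (I : CochainComplex (SimplexCategory × SimplexCategory ⥤ AddCommGrpCat.{u}) ℤ) (r : rs jj A ⟶ I)

/-- The complex of right Kan extensions. -/
noncomputable abbrev RI : CochainComplex (Dp × Dp ⥤ AddCommGrpCat.{u}) ℤ := (R.mapHomologicalComplex (up ℤ)).obj I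

/-- The map to the complex of right Kan extensions. -/
noncomputable def toRI : A ⟶ RI I where
  f q := (jj.ranAdjunction AddCommGrpCat.{u}).unit.app (A.X q) ≫ R.map (r.f q)
  comm' i j _ := by
    have h1 := r.comm i j
    change (_ ≫ _) ≫ R.map (I.d i j) = A.d i j ≫ _ ≫ _
    rw [Category.assoc, ← R.map_comp, h1, R.map_comp]
    erw [(jj.ranAdjunction AddCommGrpCat.{u}).unit_naturality_assoc (A.d i j)]

lemma toRI_counit (q : ℤ) :
    W.map ((toRI A I r).f q) ≫ (jj.ranAdjunction AddCommGrpCat.{u}).counit.app (I.X q) = r.f q := by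
  have h1 : (toRI A I r).f q = (jj.ranAdjunction AddCommGrpCat.{u}).homEquiv _ _ (r.f q) :=
    ((jj.ranAdjunction AddCommGrpCat.{u}).homEquiv_unit (f := r.f q)).symm
  have h2 : ((jj.ranAdjunction AddCommGrpCat.{u}).homEquiv _ _).symm ((toRI A I r).f q) = r.f q := by
    rw [h1]
    exact Equiv.symm_apply_apply _ _
  exact ((jj.ranAdjunction AddCommGrpCat.{u}).homEquiv_counit (g := (toRI A I r).f q)).symm.trans h2

/-- The restriction of the complex of right Kan extensions. -/
noncomputable def resRI (c : SimplexCategory × SimplexCategory) :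
    (((evaluation (Dp × Dp) AddCommGrpCat.{u}).obj (jj.obj c)).mapHomologicalComplex (up ℤ)).obj (RI I) ≅
      (((evaluation (SimplexCategory × SimplexCategory) AddCommGrpCat.{u}).obj c).mapHomologicalComplex
        (up ℤ)).obj I :=
  HomologicalComplex.Hom.isoOfComponents (fun q => asIso (((jj.ranAdjunction AddCommGrpCat.{u}).counit.app (I.X q)).app c))
    (fun i j _ => by
      have h1 := (jj.ranAdjunction AddCommGrpCat.{u}).counit.naturality (I.d i j)
      exact (NatTrans.congr_app h1 c).symm)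

lemma qA_toRI (hr : QuasiIso r) (c : SimplexCategory × SimplexCategory) : QA (toRI A I r) (jj.obj c) := by
  have h1 : (((evaluation (Dp × Dp) AddCommGrpCat.{u}).obj (jj.obj c)).mapHomologicalComplex (up ℤ)).map
      (toRI A I r) ≫ (resRI I c).hom =
      (((evaluation (SimplexCategory × SimplexCategory) AddCommGrpCat.{u}).obj c).mapHomologicalComplex
        (up ℤ)).map r := by
    ext q : 1
    exact NatTrans.congr_app (toRI_counit A I r q) c
  have h2 : QuasiIso ((((evaluation (Dp × Dp) AddCommGrpCat.{u}).obj (jj.obj c)).mapHomologicalComplex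
      (up ℤ)).map (toRI A I r) ≫ (resRI I c).hom) := by
    rw [h1]
    exact QA.of_quasiIso r hr c
  exact (quasiIso_iff_comp_right _ _).1 h2

lemma isDesc_iff_L (hA : BB A) (hI : BB I) (hI' : ∀ q, Injective (I.X q)) (x : Dp)
    (h : ∀ n : ℕ, QA (toRI A I r) (x, ob n)) :
    IsDesc (rs (secL x) A) ↔ QA (toRI A I r) (x, WithInitial.star) := by
  have hB : BB (RI I) := by
    obtain ⟨a, ha⟩ := hI
    exact ⟨a, fun i hi => R.map_isZero (ha i hi)⟩
  exact isDesc_iff_of_res (bb_rs (secL x) hA) (bb_rs (secL x) hB)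
    ((((Functor.whiskeringLeft _ _ AddCommGrpCat.{u}).obj (secL x)).mapHomologicalComplex (up ℤ)).map
      (toRI A I r)) h (fun q => augExact_L (I.X q) x)

lemma isDesc_iff_R (hA : BB A) (hI : BB I) (hI' : ∀ q, Injective (I.X q)) (x : Dp)
    (h : ∀ n : ℕ, QA (toRI A I r) (ob n, x)) :
    IsDesc (rs (secR x) A) ↔ QA (toRI A I r) (WithInitial.star, x) := by
  have hB : BB (RI I) := by
    obtain ⟨a, ha⟩ := hI
    exact ⟨a, fun i hi => R.map_isZero (ha i hi)⟩
  exact isDesc_iff_of_res (bb_rs (secR x) hA) (bb_rs (secR x) hB)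
    ((((Functor.whiskeringLeft _ _ AddCommGrpCat.{u}).obj (secR x)).mapHomologicalComplex (up ℤ)).map
      (toRI A I r)) h (fun q => augExact_R (I.X q) x)

end

theorem fubini (A : CochainComplex (Dp × Dp ⥤ AddCommGrpCat.{u}) ℤ) (hA : BB A)
    (h1 : ∀ n : ℕ, IsDesc (rs (secR (ob n)) A)) (h2 : ∀ n : ℕ, IsDesc (rs (secL (ob n)) A)) :
    IsDesc (rs (secL WithInitial.star) A) ↔ IsDesc (rs (secR WithInitial.star) A) := by
  have hei : EnoughInjectives (SimplexCategory × SimplexCategory ⥤ AddCommGrpCat.{u}) :=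
    enoughInjectives_functor.{0, 0, u} _
  obtain ⟨a, ha⟩ := id hA
  have hA' : (rs jj A).IsStrictlyGE a := by
    rw [CochainComplex.isStrictlyGE_iff]
    exact fun i hi => W.map_isZero (ha i hi)
  obtain ⟨I, r, hr, hI, hIa⟩ := CochainComplex.Plus.modelCategoryQuillen.exists_quasiIso_injective (rs jj A) a
  have hIb : BB I := ⟨a, fun i hi => I.isZero_of_isStrictlyGE a i⟩
  have h0 : ∀ m n : ℕ, QA (toRI A I r) (ob m, ob n) := fun m n =>
    qA_toRI A I r hr (SimplexCategory.mk m, SimplexCategory.mk n)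
  have h3 : ∀ n : ℕ, QA (toRI A I r) (WithInitial.star, ob n) := fun n =>
    (isDesc_iff_R A I r hA hIb hI (ob n) (fun m => h0 m n)).1 (h1 n)
  have h4 : ∀ n : ℕ, QA (toRI A I r) (ob n, WithInitial.star) := fun n =>
    (isDesc_iff_L A I r hA hIb hI (ob n) (fun m => h0 n m)).1 (h2 n)
  rw [isDesc_iff_L A I r hA hIb hI WithInitial.star h3, isDesc_iff_R A I r hA hIb hI WithInitial.star h4]

end K61.Fub
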