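import Groth.Agent.FibDesc.K781.Defs
import Mathlib.CategoryTheory.Functor.KanExtension.Adjunction
import Mathlib.Algebra.Category.Grp.EnoughInjectives

/-!
# Coinduced functors to abelian groups

`Gm wt M : D ⥤ AddCommGrpCat`, `x ↦ ∏_i ∏_{x ⟶ wt i} M i`. It is injective if all `M i` are injective; hence
functor categories to abelian groups have enough injectives. Extra codegeneracies for `σ ⋙ Gm wt M` from extra
degeneracies of the augmented simplicial sets `n ↦ (σ n ⟶ wt i)`.
-/

set_option autoImplicit false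
set_option backward.isDefEq.respectTransparency false
set_option backward.isDefEq.respectTransparency.types false

universe u v w v'

open CategoryTheory CategoryTheory.Limits Opposite

namespace K61.Fub

open K781.Desc

section Coind

variable {D : Type u} [Category.{v} D] {ι : Type v'} (wt : ι → D)

/-- The functor coinduced from the groups `M i` at the objects `wt i`. -/
def Gm (M : ι → AddCommGrpCat.{max w v v'}) : D ⥤ AddCommGrpCat.{max w v v'} where
  obj x := AddCommGrpCat.of (∀ i, (x ⟶ wt i) → M i)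
  map g := AddCommGrpCat.ofHom (AddMonoidHom.mk' (fun a i f => a i (g ≫ f)) (fun _ _ => rfl))
  map_id x := by
    ext a i f
    change a i (𝟙 x ≫ f) = a i f
    rw [Category.id_comp]
  map_comp g h := by
    ext a i f
    change a i ((g ≫ h) ≫ f) = a i (g ≫ h ≫ f)
    rw [Category.assoc]

/-- The morphism to `Gm wt M` determined by morphisms `P (wt i) ⟶ M i`. -/
def toGm {P : D ⥤ AddCommGrpCat.{max w v v'}} {M : ι → AddCommGrpCat.{max w v v'}}
    (g : ∀ i, P.obj (wt i) ⟶ M i) : P ⟶ Gm wt M where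
  app x := AddCommGrpCat.ofHom (AddMonoidHom.mk' (fun a i f => g i (P.map f a)) (fun a b => by
    funext i f
    simp))
  naturality x y h := by
    ext a
    funext i f
    change g i (P.map f (P.map h a)) = g i (P.map (h ≫ f) a)
    rw [P.map_comp]
    rfl

theorem injective_Gm (M : ι → AddCommGrpCat.{max w v v'}) [∀ i, Injective (M i)] : Injective (Gm wt M) where
  factors {Q R} g m hm := by
    have hm' : ∀ x, Mono (m.app x) := fun x => inferInstance
    let gi : ∀ i, Q.obj (wt i) ⟶ M i := fun i =>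
      AddCommGrpCat.ofHom (AddMonoidHom.mk' (fun q => (show (∀ j, (wt i ⟶ wt j) → M j) from
        g.app (wt i) q) i (𝟙 (wt i))) (fun a b => by
          change (g.app (wt i) (a + b) : ∀ j, (wt i ⟶ wt j) → M j) i (𝟙 _) = _
          rw [map_add]
          rfl))
    refine ⟨toGm wt fun i => Injective.factorThru (gi i) (m.app (wt i)), ?_⟩
    ext x q
    funext i f
    change Injective.factorThru (gi i) (m.app (wt i)) (R.map f (m.app x q)) = (g.app x q : ∀ j, (x ⟶ wt j) → M j) i f
    have h1 : R.map f (m.app x q) = m.app (wt i) (Q.map f q) := congr($((m.naturality f).symm) q)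
    rw [h1]
    have h2 : Injective.factorThru (gi i) (m.app (wt i)) (m.app (wt i) (Q.map f q)) = gi i (Q.map f q) :=
      congr($(Injective.comp_factorThru (gi i) (m.app (wt i))) (Q.map f q))
    rw [h2]
    change (g.app (wt i) (Q.map f q) : ∀ j, (wt i ⟶ wt j) → M j) i (𝟙 _) = _
    have h3 : g.app (wt i) (Q.map f q) = (Gm wt M).map f (g.app x q) := congr($(g.naturality f) q)
    rw [h3]
    change (g.app x q : ∀ j, (x ⟶ wt j) → M j) i (f ≫ 𝟙 _) = _
    rw [Category.comp_id]

theorem mono_toGm {P : D ⥤ AddCommGrpCat.{max w v v'}} {M : ι → AddCommGrpCat.{max w v v'}}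
    (g : ∀ i, P.obj (wt i) ⟶ M i) [∀ i, Mono (g i)]
    (hP : ∀ (x : D) (a : P.obj x), (∀ (i : ι) (f : x ⟶ wt i), P.map f a = 0) → a = 0) : Mono (toGm wt g) := by
  have : ∀ x, Mono ((toGm wt g).app x) := by
    intro x
    rw [AddCommGrpCat.mono_iff_injective, injective_iff_map_eq_zero]
    intro a ha
    refine hP x a fun i f => ?_
    have h1 : g i (P.map f a) = 0 := congr_fun (congr_fun ha i) f
    exact (injective_iff_map_eq_zero (g i).hom).1 ((AddCommGrpCat.mono_iff_injective (g i)).1 inferInstance) _ h1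
  exact NatTrans.mono_of_mono_app _

end Coind

/-- Functor categories to abelian groups have enough injectives. -/
theorem enoughInjectives_functor (D : Type u) [Category.{v} D] :
    EnoughInjectives (D ⥤ AddCommGrpCat.{max w v u}) where
  presentation P := ⟨{
    J := Gm.{u, v, w} (id : D → D) fun x => Injective.under (P.obj x)
    injective := injective_Gm _ _
    f := toGm _ fun x => Injective.ι (P.obj x)
    mono := mono_toGm _ _ fun x a h => by simpa using h x (𝟙 x) }⟩

section Extra

variable {D : Type u} [Category.{v} D]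

/-- An extra degeneracy of the augmented simplicial set `n ↦ (σ n ⟶ y)`. -/
structure XD (σ : Dp ⥤ D) (y : D) where
  /-- the degeneracy of the augmentation -/
  t' : (σ.obj WithInitial.star ⟶ y) → (σ.obj (ob 0) ⟶ y)
  /-- the degeneracies -/
  t : ∀ n : ℕ, (σ.obj (ob n) ⟶ y) → (σ.obj (ob (n + 1)) ⟶ y)
  e' : ∀ f, σ.map (init (ob 0)) ≫ t' f = f
  e0' : ∀ f, σ.map (WithInitial.incl.map (SimplexCategory.δ (1 : Fin 2))) ≫ t 0 f = t' (σ.map (init (ob 0)) ≫ f)
  e0 : ∀ (n : ℕ) (f), σ.map (WithInitial.incl.map (SimplexCategory.δ (0 : Fin (n + 2)))) ≫ t n f = f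
  e : ∀ (n : ℕ) (i : Fin (n + 2)) (f), σ.map (WithInitial.incl.map (SimplexCategory.δ i.succ)) ≫ t (n + 1) f =
    t n (σ.map (WithInitial.incl.map (SimplexCategory.δ i)) ≫ f)

/-- The extra codegeneracy of the coinduced functor. -/
def XD.xco {ι : Type v'} {wt : ι → D} (M : ι → AddCommGrpCat.{max w v v'}) {σ : Dp ⥤ D}
    (h : ∀ i, XD σ (wt i)) : XCo (σ ⋙ Gm wt M) where
  s' := AddCommGrpCat.ofHom (AddMonoidHom.mk' (fun a i f => a i ((h i).t' f)) (fun _ _ => rfl))
  s n := AddCommGrpCat.ofHom (AddMonoidHom.mk' (fun a i f => a i ((h i).t n f)) (fun _ _ => rfl))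
  w' := by
    ext a
    funext i f
    change a i (σ.map (init (ob 0)) ≫ (h i).t' f) = a i f
    rw [(h i).e']
  w0' := by
    ext a
    funext i f
    change a i (σ.map (WithInitial.incl.map (SimplexCategory.δ (1 : Fin 2))) ≫ (h i).t 0 f) =
      a i ((h i).t' (σ.map (init (ob 0)) ≫ f))
    rw [(h i).e0']
  w0 n := by
    ext a
    funext i f
    change a i (σ.map (WithInitial.incl.map (SimplexCategory.δ (0 : Fin (n + 2)))) ≫ (h i).t n f) = a i f
    rw [(h i).e0]
  w n j := by
    ext a
    funext i f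
    change a i (σ.map (WithInitial.incl.map (SimplexCategory.δ j.succ)) ≫ (h i).t (n + 1) f) =
      a i ((h i).t n (σ.map (WithInitial.incl.map (SimplexCategory.δ j)) ≫ f))
    rw [(h i).e]

/-- Injective functors whose sections are detected on the `wt i` have exact rows along `σ` if the `n ↦ (σ n ⟶ wt i)`
have extra degeneracies. -/
theorem ex_of_injective {ι : Type v'} {wt : ι → D} {σ : Dp ⥤ D} (h : ∀ i, XD σ (wt i))
    (I : D ⥤ AddCommGrpCat.{max w v v'}) [Injective I]
    (hI : ∀ (x : D) (a : I.obj x), (∀ (i : ι) (f : x ⟶ wt i), I.map f a = 0) → a = 0) : Ex (σ ⋙ I) := by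
  let m : I ⟶ Gm wt fun i => I.obj (wt i) := toGm wt fun i => 𝟙 _
  have hm : Mono m := mono_toGm _ _ hI
  have h1 : m ≫ Injective.factorThru (𝟙 I) m = 𝟙 I := Injective.comp_factorThru _ _
  refine (XD.xco _ h).ex.retract (Functor.whiskerLeft σ m)
    (Functor.whiskerLeft σ (Injective.factorThru (𝟙 I) m)) ?_
  rw [← Functor.whiskerLeft_comp, h1]
  rfl

end Extra

section Simplex

/-- Extend a map from `[n]` to `[n + 1]` by `0 ↦ 0`. -/
def extS {n k : ℕ} (f : SimplexCategory.mk n ⟶ SimplexCategory.mk k) :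
    SimplexCategory.mk (n + 1) ⟶ SimplexCategory.mk k :=
  SimplexCategory.Hom.mk
    { toFun := Fin.cases 0 f.toOrderHom
      monotone' := by
        intro a b hab
        induction a using Fin.cases with
        | zero => exact Fin.zero_le _
        | succ a =>
          induction b using Fin.cases with
          | zero => exact absurd hab (by simp)
          | succ b => exact f.toOrderHom.monotone (Fin.succ_le_succ_iff.1 hab) }

/-- The constant map with value `0`. -/
def zeroS (k : ℕ) : SimplexCategory.mk 0 ⟶ SimplexCategory.mk k :=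
  SimplexCategory.Hom.mk ⟨fun _ => 0, fun _ _ _ => le_rfl⟩

lemma δ_zero_extS {n k : ℕ} (f : SimplexCategory.mk n ⟶ SimplexCategory.mk k) :
    SimplexCategory.δ 0 ≫ extS f = f := by
  ext i : 3
  rfl

lemma δ_one_extS {k : ℕ} (f : SimplexCategory.mk 0 ⟶ SimplexCategory.mk k) :
    SimplexCategory.δ (1 : Fin 2) ≫ extS f = zeroS k := by
  ext i : 3
  obtain rfl : i = 0 := Subsingleton.elim (α := Fin 1) _ _
  rfl

lemma δ_succ_extS {n k : ℕ} (f : SimplexCategory.mk (n + 1) ⟶ SimplexCategory.mk k) (i : Fin (n + 2)) :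
    SimplexCategory.δ i.succ ≫ extS f = extS (SimplexCategory.δ i ≫ f) := by
  ext j : 3
  induction j using Fin.cases with
  | zero => 
    change (Fin.cases (0 : Fin (k + 1)) f.toOrderHom (i.succ.succAbove 0) : Fin (k + 1)) = 0
    rw [Fin.succ_succAbove_zero]
    rfl
  | succ j => 
    change (Fin.cases (0 : Fin (k + 1)) f.toOrderHom (i.succ.succAbove j.succ) : Fin (k + 1)) =
      f.toOrderHom (i.succAbove j)
    rw [Fin.succ_succAbove_succ]
    rfl

/-- The extra degeneracy of the standard simplex. -/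
def xdSimplex (k : ℕ) : XD (𝟭 Dp) (ob k) where
  t' _ := WithInitial.incl.map (zeroS k)
  t n f := WithInitial.incl.map (extS (WithInitial.down f))
  e' f := WithInitial.starInitial.hom_ext _ _
  e0' f := by
    change WithInitial.incl.map (SimplexCategory.δ (1 : Fin 2)) ≫ WithInitial.incl.map (extS _) = _
    rw [← WithInitial.incl.map_comp, δ_one_extS]
  e0 n f := by
    change WithInitial.incl.map (SimplexCategory.δ (0 : Fin (n + 2))) ≫ WithInitial.incl.map (extS _) = _
    rw [← WithInitial.incl.map_comp, δ_zero_extS]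
    rfl
  e n i f := by
    change WithInitial.incl.map (SimplexCategory.δ i.succ) ≫ WithInitial.incl.map (extS _) = _
    rw [← WithInitial.incl.map_comp, δ_succ_extS]
    rfl

variable {D : Type u} [Category.{v} D]

/-- The extra degeneracy along `(x, -)`. -/
def XD.prodL (x : D) (a : D) {b : Dp} (h : XD (𝟭 Dp) b) : XD (Prod.sectR x Dp) ((a, b) : D × Dp) where
  t' f := (f.1, h.t' f.2)
  t n f := (f.1, h.t n f.2)
  e' f := Prod.ext (Category.id_comp _) (h.e' f.2)
  e0' f := Prod.ext (by
    change 𝟙 _ ≫ f.1 = 𝟙 _ ≫ f.1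
    rfl) (h.e0' f.2)
  e0 n f := Prod.ext (Category.id_comp _) (h.e0 n f.2)
  e n i f := Prod.ext (by
    change 𝟙 _ ≫ f.1 = 𝟙 _ ≫ f.1
    rfl) (h.e n i f.2)

/-- The extra degeneracy along `(-, x)`. -/
def XD.prodR (x : D) (a : D) {b : Dp} (h : XD (𝟭 Dp) b) : XD (Prod.sectL Dp x) ((b, a) : Dp × D) where
  t' f := (h.t' f.1, f.2)
  t n f := (h.t n f.1, f.2)
  e' f := Prod.ext (h.e' f.1) (Category.id_comp _)
  e0' f := Prod.ext (h.e0' f.1) (by
    change 𝟙 _ ≫ f.2 = 𝟙 _ ≫ f.2
    rfl)
  e0 n f := Prod.ext (h.e0 n f.1) (Category.id_comp _)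
  e n i f := Prod.ext (h.e n i f.1) (by
    change 𝟙 _ ≫ f.2 = 𝟙 _ ≫ f.2
    rfl)

end Simplex

end K61.Fub
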